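import Cfsg.Agent.H690.S8.Lie
import Cfsg.Agent.H196.S8.Core
import Cfsg.Agent.H113.PSU.Chars

/-!
# S4908, SOC1: socles of Lie type of characteristic two with `|S|₂ = 2 ^ 10, 2 ^ 11, 2 ^ 21` (helper75)

* `typ_ten`, `typ_eleven`, `typ_21` : the types;
* `lie_two_cases` : such a group is `PSU₅(2)` or its order is divisible by one of the primes `31, 43, 89, 127`;
* `u52` : `PSU₅(2)` has the degrees `44` and `120`;
* `lie_two_false` : the rows.
-/

set_option autoImplicit false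

namespace Cfsg.Agent.H75.S8

open Cfsg Cfsg.Agent.H704 Cfsg.Agent.NotCT Cfsg.Agent.H657.DS Cfsg.Agent.H690.S8
open Cfsg.Agent.H691.AN (AlmostSimple)

universe u

theorem typ_ten {t : Typ} {k : ℕ} (hv : t.Valid 2 k) (hk : k * t.N = 10) :
    (t, k) ∈ [(Typ.L 2, 10), (Typ.L 5, 1), (Typ.U 5, 1), (Typ.SZ, 5)] :=
  typ_mem 2 10 _ (by decide +kernel) hv hk

theorem typ_eleven {t : Typ} {k : ℕ} (hv : t.Valid 2 k) (hk : k * t.N = 11) : (t, k) ∈ [(Typ.L 2, 11)] :=
  typ_mem 2 11 _ (by decide +kernel) hv hk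

theorem typ_21 {t : Typ} {k : ℕ} (hv : t.Valid 2 k) (hk : k * t.N = 21) :
    (t, k) ∈ [(Typ.L 2, 21), (Typ.L 3, 7), (Typ.L 7, 1), (Typ.U 3, 7), (Typ.U 7, 1)] :=
  typ_mem 2 21 _ (by decide +kernel) hv hk

/-- a prime divisor of the order -/
theorem dvd_of_typ {S : Type u} [Group S] {p k r : ℕ} (hp : p.Prime) {t : Typ} (hv : t.Valid p k)
    (h : IsTyp t (p ^ k) S) (h1 : (p ^ k) ^ t.N * t.P (p ^ k) % r = 0) (h2 : Nat.gcd r (t.D (p ^ k)) = 1) :
    r ∣ Nat.card S := by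
  have h3 : t.D (p ^ k) * Nat.card S = (p ^ k) ^ t.N * t.P (p ^ k) := card_eq hp hv h
  have h4 : r ∣ t.D (p ^ k) * Nat.card S := by rw [h3]; exact Nat.dvd_of_mod_eq_zero h1
  exact Nat.Coprime.dvd_of_dvd_mul_left h2 h4

/-- **The groups of Lie type of characteristic two with a Sylow subgroup of order `2 ^ 10`, `2 ^ 11`, `2 ^ 21`.** -/
theorem lie_two_cases {S : Type u} [Group S] {t : Typ} {k : ℕ} (hv : t.Valid 2 k) (ht : IsTyp t (2 ^ k) S)
    (hk : k * t.N = 10 ∨ k * t.N = 11 ∨ k * t.N = 21) :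
    (∃ (F : Type) (_ : Field F) (_ : Fintype F), Fintype.card F = 2 ^ 2 ∧ Nonempty (S ≃* PSU 5 F 2)) ∨
      ∃ r ∈ [31, 43, 89, 127], r ∣ Nat.card S := by
  rcases hk with hk | hk | hk
  · have h2 := typ_ten hv hk
    simp only [List.mem_cons, List.not_mem_nil, or_false, Prod.mk.injEq] at h2
    rcases h2 with ⟨rfl, rfl⟩ | ⟨rfl, rfl⟩ | ⟨rfl, rfl⟩ | ⟨rfl, rfl⟩
    · exact Or.inr ⟨31, by simp, dvd_of_typ Nat.prime_two hv ht (by decide +kernel) (by decide +kernel)⟩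
    · exact Or.inr ⟨31, by simp, dvd_of_typ Nat.prime_two hv ht (by decide +kernel) (by decide +kernel)⟩
    · left
      obtain ⟨F, _, _, hF, ⟨e⟩⟩ := ht
      rw [pow_one] at hF
      exact ⟨F, inferInstance, inferInstance, hF, ⟨e⟩⟩
    · exact Or.inr ⟨31, by simp, dvd_of_typ Nat.prime_two hv ht (by decide +kernel) (by decide +kernel)⟩
  · have h2 := typ_eleven hv hk
    simp only [List.mem_cons, List.not_mem_nil, or_false, Prod.mk.injEq] at h2
    obtain ⟨rfl, rfl⟩ := h2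
    exact Or.inr ⟨89, by simp, dvd_of_typ Nat.prime_two hv ht (by decide +kernel) (by decide +kernel)⟩
  · have h2 := typ_21 hv hk
    simp only [List.mem_cons, List.not_mem_nil, or_false, Prod.mk.injEq] at h2
    rcases h2 with ⟨rfl, rfl⟩ | ⟨rfl, rfl⟩ | ⟨rfl, rfl⟩ | ⟨rfl, rfl⟩ | ⟨rfl, rfl⟩
    · exact Or.inr ⟨127, by simp, dvd_of_typ Nat.prime_two hv ht (by decide +kernel) (by decide +kernel)⟩
    · exact Or.inr ⟨127, by simp, dvd_of_typ Nat.prime_two hv ht (by decide +kernel) (by decide +kernel)⟩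
    · exact Or.inr ⟨127, by simp, dvd_of_typ Nat.prime_two hv ht (by decide +kernel) (by decide +kernel)⟩
    · exact Or.inr ⟨43, by simp, dvd_of_typ Nat.prime_two hv ht (by decide +kernel) (by decide +kernel)⟩
    · exact Or.inr ⟨43, by simp, dvd_of_typ Nat.prime_two hv ht (by decide +kernel) (by decide +kernel)⟩

/-- the rank three characters of `PSU₅(2)` -/
theorem u52 {F : Type} [Field F] [Fintype F] (hF : Fintype.card F = 2 ^ 2) :
    44 ∈ charDegrees (PSU 5 F 2) ∧ 120 ∈ charDegrees (PSU 5 F 2) := by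
  obtain ⟨χ₁, χ₂, f, g, h1, h2, hf, hg, e1, e2⟩ := H113.PSU.Chars.exists_chars (F := F) (q := 2) (m := 3) hF (by norm_num)
  norm_num at e1 e2
  have h44 : f = 44 := by omega
  have h120 : g = 120 := by omega
  subst h44
  subst h120
  exact ⟨H681.DegBasic.mem_charDegrees.2 ⟨χ₁, h1, hf⟩, H681.DegBasic.mem_charDegrees.2 ⟨χ₂, h2, hg⟩⟩

theorem card_out_u52 {S : Type u} [Group S] {F : Type} [Field F] [Fintype F] (hF : Fintype.card F = 2 ^ 2)
    (e : S ≃* PSU 5 F 2) : Nat.card (Out S) = 2 := by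
  have : Fact (Nat.Prime 2) := ⟨Nat.prime_two⟩
  rw [Nat.card_congr (H234.OutGood.outCongr e).toEquiv,
    H149.PGU.card_out_psu (p := 2) (f := 1) (q := 2) (n := 5) le_rfl (pow_one 2).symm hF (by norm_num) (by norm_num)]
  decide

variable {D : Set ℕ} {A : Type u} [Group A] [Finite A]

/-- an almost simple group with socle `PSU₅(2)` has a degree `44` or `88`, and `120` or `240` -/
theorem u52_mem {S : Subgroup A} (hA : AlmostSimple A S) (h : charDegrees A ⊆ D) {F : Type} [Field F] [Fintype F]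
    (hF : Fintype.card F = 2 ^ 2) (e : S ≃* PSU 5 F 2) : (44 ∈ D ∨ 88 ∈ D) ∧ (120 ∈ D ∨ 240 ∈ D) := by
  have := hA.normal
  have hi : S.index ∣ Nat.card (Cfsg.Out S) := H816.OutEmb.index_dvd S (by rw [hA.cent]; exact bot_le)
  rw [card_out_u52 hF e] at hi
  obtain ⟨h1, h2⟩ := u52 hF
  have key : ∀ c : ℕ, 0 < c → c ∈ charDegrees (PSU 5 F 2) → c ∈ D ∨ 2 * c ∈ D := by
    intro c hc hm
    obtain ⟨d, h7, ⟨b, h8⟩, h9⟩ := over_mem S h (mem_equiv e hm)
    subst h8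
    rw [Nat.mul_div_cancel_left _ hc] at h9
    rcases (Nat.dvd_prime Nat.prime_two).1 (h9.trans hi) with rfl | rfl
    · left; rwa [mul_one] at h7
    · right; rwa [mul_comm] at h7
  exact ⟨key 44 (by norm_num) h1, key 120 (by norm_num) h2⟩

/-- **The rows.** The powers of two in `D` are at most `2 ^ 10, 2 ^ 11, 2 ^ 21`, no degree is divisible by `31`, `43`,
`89`, `127`, and `44, 88 ∉ D`: the socle is not of Lie type of characteristic two. -/
theorem lie_two_false (hpw : ∀ a : ℕ, 0 < a → 2 ^ a ∈ D → a = 10 ∨ a = 11 ∨ a = 21)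
    (hpr : ∀ d ∈ D, ∀ r ∈ [31, 43, 89, 127], ¬ r ∣ d) (h44 : 44 ∉ D) (h88 : 88 ∉ D)
    {S : Subgroup A} (hA : AlmostSimple A S) (h : charDegrees A ⊆ D) (hl : IsLieTypeChar 2 S) : False := by
  have := hA.normal
  have := hA.simple
  obtain ⟨t, k, hv, ht, h1, h2⟩ := typ_mem_D S h Nat.prime_two hl
  rcases lie_two_cases hv ht (hpw _ h1 h2) with ⟨F, _, _, hF, ⟨e⟩⟩ | ⟨r, hr, hd⟩
  · rcases (u52_mem hA h hF e).1 with h3 | h3
    · exact h44 h3
    · exact h88 h3
  · have hrp : r.Prime := by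
      simp only [List.mem_cons, List.not_mem_nil, or_false] at hr
      rcases hr with rfl | rfl | rfl | rfl <;> norm_num
    obtain ⟨d, h3, h4⟩ := H196.S8.prime_deg hA hrp hd
    exact hpr d (h h3) r hr h4

end Cfsg.Agent.H75.S8
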