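import Cfsg.Agent.H75.S8.LieTwo

/-!
# S4908, SOC1: socles of Lie type, any characteristic (helper75)

* `psl_false` : the Steinberg degree is a prime `p > 5` with `p + 1, 2 (p + 1) ∉ D`;
* `lie_all` : the only prime powers in `D` are such primes and `2 ^ 10`, `2 ^ 11`, `2 ^ 21` (rows `Co₂`, `Co₃`, `Co₁`).
-/

set_option autoImplicit false

namespace Cfsg.Agent.H75.S8

open Cfsg Cfsg.Agent.H704 Cfsg.Agent.NotCT Cfsg.Agent.H657.DS Cfsg.Agent.H690.S8
open Cfsg.Agent.H691.AN (AlmostSimple)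

universe u

variable {D : Set ℕ} {A : Type u} [Group A] [Finite A]

/-- the socle is `PSL₂(p)`, `p > 5` -/
theorem psl_false {S : Subgroup A} (hA : AlmostSimple A S) (h : charDegrees A ⊆ D) {p k : ℕ} (hp : p.Prime) {t : Typ}
    (hv : t.Valid p k) (ht : IsTyp t (p ^ k) S) (ha : k * t.N = 1) (h3 : 5 < p) (h4 : p + 1 ∉ D)
    (h5 : 2 * (p + 1) ∉ D) : False := by
  have := hA.normal
  have := hA.simple
  have hi : S.index ∣ Nat.card (Cfsg.Out S) := H816.OutEmb.index_dvd S (by rw [hA.cent]; exact bot_le)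
  obtain ⟨rfl, rfl⟩ := typ_prime hv ha
  obtain ⟨F, _, _, hF, ⟨e⟩⟩ := ht
  rw [pow_one] at hF
  obtain ⟨-, h6, -⟩ := H664.R1.PSLTwo.degrees_odd (F := F)
    (by rw [hF]; exact hp.odd_of_ne_two (by omega)) (by rw [hF]; exact h3)
  rw [hF] at h6
  have : Fact p.Prime := ⟨hp⟩
  have ho : Nat.card (Out S) = 2 := by
    rw [Nat.card_congr (H234.OutGood.outCongr e).toEquiv,
      H60.HalfPsl.card_out (F := F) (p := p) (f := 1) (by norm_num) (by rw [pow_one]; exact hF)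
        (by rw [pow_one]; omega), pow_one, mul_one]
    obtain ⟨m, hm⟩ := hp.odd_of_ne_two (by omega)
    exact Nat.gcd_eq_left ⟨m, by omega⟩
  rw [ho] at hi
  obtain ⟨d, h7, ⟨c, h8⟩, h9⟩ := over_mem S h (mem_equiv e h6)
  subst h8
  rw [Nat.mul_div_cancel_left _ (by omega)] at h9
  rcases (Nat.dvd_prime Nat.prime_two).1 (h9.trans hi) with rfl | rfl
  · rw [mul_one] at h7; exact h4 h7
  · rw [mul_comm] at h7; exact h5 h7

/-- **The rows, all characteristics.** -/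
theorem lie_all (hpr : ∀ p : ℕ, p.Prime → p ∈ D → 5 < p ∧ p + 1 ∉ D ∧ 2 * (p + 1) ∉ D)
    (hpp : ∀ p a : ℕ, p.Prime → 2 ≤ a → p ^ a ∈ D → p = 2 ∧ (a = 10 ∨ a = 11 ∨ a = 21))
    (hq : ∀ d ∈ D, ∀ r ∈ [31, 43, 89, 127], ¬ r ∣ d) (h44 : 44 ∉ D) (h88 : 88 ∉ D)
    {S : Subgroup A} (hA : AlmostSimple A S) (h : charDegrees A ⊆ D) {p : ℕ} (hp : p.Prime)
    (hl : IsLieTypeChar p S) : False := by
  by_cases h2 : p = 2
  · subst h2
    refine lie_two_false (fun a ha hm => ?_) hq h44 h88 hA h hl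
    rcases (show a = 1 ∨ 2 ≤ a by omega) with rfl | h1
    · rw [pow_one] at hm
      exact absurd (hpr 2 hp hm).1 (by norm_num)
    · exact (hpp 2 a hp h1 hm).2
  · have := hA.normal
    have := hA.simple
    obtain ⟨t, k, hv, ht, h1, h3⟩ := typ_mem_D S h hp hl
    rcases (show k * t.N = 1 ∨ 2 ≤ k * t.N by omega) with ha | ha
    · rw [ha, pow_one] at h3
      obtain ⟨h4, h5, h6⟩ := hpr p hp h3
      exact psl_false hA h hp hv ht ha h4 h5 h6
    · exact h2 (hpp p _ hp ha h3).1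

end Cfsg.Agent.H75.S8
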